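import Groth.Agent.TorsDerLib.Generic
import Groth.Agent.CompareLib.Site
import Groth.Prelude.Def_SiteCmp
import Mathlib.CategoryTheory.Sites.LocallyInjective
import Mathlib.Algebra.FreeAbelianGroup.Finsupp

/-! The torsion subsheaf and divisible sheaves. -/

set_option linter.unusedSectionVars false
set_option linter.style.haveILetI false

universe u

open CategoryTheory Limits Opposite

namespace Groth.Agent.TorsDerLib

noncomputable section

variable {C : Type u} [SmallCategory C] {J : GrothendieckTopology C}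

open CompareLib (map_comp_apply sections_injective imageSieve_mem_of_epi)

/-- The sections which are locally of finite order. -/
def torsSub (P : Cᵒᵖ ⥤ AddCommGrpCat.{u}) (U : Cᵒᵖ) : AddSubgroup (P.obj U) where
  carrier := {s | ∃ S ∈ J U.unop, ∀ ⦃V : C⦄ (g : V ⟶ U.unop), S g → IsOfFinAddOrder (P.map g.op s)}
  zero_mem' := ⟨⊤, J.top_mem _, fun V g _ => by rw [map_zero]; exact IsOfFinAddOrder.zero⟩
  add_mem' := by
    rintro a b ⟨S, hS, ha⟩ ⟨T, hT, hb⟩
    exact ⟨S ⊓ T, J.intersection_covering hS hT, fun V g hg => by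
      rw [map_add]; exact (ha g hg.1).add (hb g hg.2)⟩
  neg_mem' := by
    rintro a ⟨S, hS, ha⟩
    exact ⟨S, hS, fun V g hg => by rw [map_neg]; exact (ha g hg).neg⟩

/-- The presheaf of sections locally of finite order. -/
def torsPsh (P : Cᵒᵖ ⥤ AddCommGrpCat.{u}) : Cᵒᵖ ⥤ AddCommGrpCat.{u} where
  obj U := AddCommGrpCat.of (torsSub (J := J) P U)
  map {U V} f := AddCommGrpCat.ofHom (((P.map f).hom.comp (torsSub P U).subtype).codRestrict
    (torsSub P V) (fun s => by
      obtain ⟨S, hS, hs⟩ := s.2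
      refine ⟨S.pullback f.unop, J.pullback_stable _ hS, fun W g hg => ?_⟩
      have h := hs (g ≫ f.unop) hg
      rw [map_comp_apply] at h
      exact h))
  map_id U := by
    ext s
    change P.map (𝟙 U) (s : P.obj U) = (s : P.obj U)
    rw [CategoryTheory.Functor.map_id]
    rfl
  map_comp {U V W} f g := by
    ext s
    exact ConcreteCategory.congr_hom (P.map_comp f g) (s : P.obj U)

/-- The inclusion. -/
def torsIncl (P : Cᵒᵖ ⥤ AddCommGrpCat.{u}) : torsPsh (J := J) P ⟶ P where
  app U := AddCommGrpCat.ofHom (torsSub P U).subtype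

/-- The torsion subsheaf. -/
def torsObj (X : Sheaf J AddCommGrpCat.{u}) : Sheaf J AddCommGrpCat.{u} :=
  (presheafToSheaf J AddCommGrpCat.{u}).obj (torsPsh (J := J) X.obj)

/-- The inclusion of the torsion subsheaf. -/
def torsι (X : Sheaf J AddCommGrpCat.{u}) : torsObj X ⟶ X :=
  ((sheafificationAdjunction J AddCommGrpCat.{u}).homEquiv _ X).symm (torsIncl X.obj)

lemma mono_torsι (X : Sheaf J AddCommGrpCat.{u}) : Mono (torsι X) := by
  haveI : ∀ U, Mono ((torsIncl (J := J) X.obj).app U) := fun U =>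
    (AddCommGrpCat.mono_iff_injective _).2 (fun a b h => Subtype.ext h)
  haveI : Mono (torsIncl (J := J) X.obj) := NatTrans.mono_of_mono_app _
  haveI hm : Mono ((presheafToSheaf J AddCommGrpCat.{u}).map (torsIncl (J := J) X.obj)) :=
    (presheafToSheaf J AddCommGrpCat.{u}).map_mono (torsIncl (J := J) X.obj)
  rw [torsι, Adjunction.homEquiv_counit]
  haveI : IsIso ((sheafificationAdjunction J AddCommGrpCat.{u}).counit.app X) := inferInstance
  exact @mono_comp _ _ _ _ _ _ hm _ inferInstance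

lemma isTorsion_torsObj (X : Sheaf J AddCommGrpCat.{u}) : SiteCmp.torsionSh J (torsObj X) := by
  intro U s
  let φ := toSheafify J (torsPsh (J := J) X.obj)
  refine ⟨Sieve.bind (Presheaf.imageSieve φ s).arrows fun V g hg =>
    (Presheaf.localPreimage φ s g hg).2.choose, ?_, ?_⟩
  · exact J.bind_covering (Presheaf.imageSieve_mem J φ s)
      fun V g hg => (Presheaf.localPreimage φ s g hg).2.choose_spec.1
  · rintro W _ ⟨V, k, g, hg, hk, rfl⟩
    have h := (Presheaf.localPreimage φ s g hg).2.choose_spec.2 k hk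
    have e := Presheaf.app_localPreimage φ s g hg
    rw [map_comp_apply]
    have h' : IsOfFinAddOrder ((torsPsh (J := J) X.obj).map k.op (Presheaf.localPreimage φ s g hg)) := by
      obtain ⟨n, hn, hn0⟩ := isOfFinAddOrder_iff_nsmul_eq_zero.1 h
      exact isOfFinAddOrder_iff_nsmul_eq_zero.2 ⟨n, hn, Subtype.ext hn0⟩
    have h'' := (φ.app (op W)).hom.isOfFinAddOrder h'
    have nat := ConcreteCategory.congr_hom (φ.naturality k.op) (Presheaf.localPreimage φ s g hg)
    erw [← e]
    exact (congrArg IsOfFinAddOrder nat).mp h''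

/-- Maps from torsion sheaves factor through the torsion subsheaf. -/
def torsLift {F X : Sheaf J AddCommGrpCat.{u}} (h : SiteCmp.torsionSh J F) (φ : F ⟶ X) :
    F ⟶ torsObj X :=
  ⟨{ app := fun U => AddCommGrpCat.ofHom ((φ.hom.app U).hom.codRestrict (torsSub X.obj U) fun s => by
      obtain ⟨S, hS, hs⟩ := h U.unop s
      refine ⟨S, hS, fun V g hg => ?_⟩
      have e := ConcreteCategory.congr_hom (φ.hom.naturality g.op) s
      exact (congrArg IsOfFinAddOrder e).mp ((φ.hom.app (op V)).hom.isOfFinAddOrder (hs g hg)))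
     naturality := fun U V f => by
      ext s
      apply Subtype.ext
      exact ConcreteCategory.congr_hom (φ.hom.naturality f) s } ≫
    toSheafify J (torsPsh (J := J) X.obj)⟩

lemma torsLift_ι {F X : Sheaf J AddCommGrpCat.{u}} (h : SiteCmp.torsionSh J F) (φ : F ⟶ X) :
    torsLift h φ ≫ torsι X = φ := by
  apply Sheaf.hom_ext
  have e : toSheafify J (torsPsh (J := J) X.obj) ≫ (torsι X).hom = torsIncl X.obj :=
    ((sheafificationAdjunction J AddCommGrpCat.{u}).homEquiv_unit _ _ _).symm.trans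
      (Equiv.apply_symm_apply _ _)
  refine (Category.assoc _ _ _).trans ((congrArg (_ ≫ ·) e).trans ?_)
  rfl

/-- The torsion coreflection. -/
def torsCoreflection : Coreflection (SiteCmp.torsionSh J) where
  tgt := torsObj
  ι := torsι
  mono := mono_torsι
  prop := isTorsion_torsObj
  lift h φ := torsLift h φ
  lift_ι h φ := torsLift_ι h φ

lemma exists_torsι_eq (X : Sheaf J AddCommGrpCat.{u}) {U : C} (s : X.obj.obj (op U))
    (n : ℕ) (hn : 0 < n) (hs : n • s = 0) : ∃ s' : (torsObj X).obj.obj (op U),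
      (torsι X).hom.app (op U) s' = s := by
  have hmem : s ∈ torsSub (J := J) X.obj (op U) := ⟨⊤, J.top_mem _, fun V g _ =>
    isOfFinAddOrder_iff_nsmul_eq_zero.2 ⟨n, hn, by rw [← map_nsmul, hs, map_zero]⟩⟩
  refine ⟨(toSheafify J (torsPsh (J := J) X.obj)).app (op U) ⟨s, hmem⟩, ?_⟩
  have e : toSheafify J (torsPsh (J := J) X.obj) ≫ (torsι X).hom = torsIncl X.obj :=
    ((sheafificationAdjunction J AddCommGrpCat.{u}).homEquiv_unit _ _ _).symm.trans
      (Equiv.apply_symm_apply _ _)
  exact ConcreteCategory.congr_hom (NatTrans.congr_app e (op U)) ⟨s, hmem⟩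

/-- Sheaves on which multiplication by positive integers is surjective. -/
def divisibleSh : ObjectProperty (Sheaf J AddCommGrpCat.{u}) :=
  fun X => ∀ n : ℕ, 0 < n → Epi (n • 𝟙 X)

lemma divisible_of_epi {X Y : Sheaf J AddCommGrpCat.{u}} (p : X ⟶ Y) [Epi p] (h : divisibleSh X) :
    divisibleSh Y := fun n hn => by
  haveI := h n hn
  refine epi_of_epi_fac (show p ≫ (n • 𝟙 Y) = (n • 𝟙 X) ≫ p from ?_)
  simp [Preadditive.comp_nsmul, Preadditive.nsmul_comp]

lemma divisible_of_injective (I : Sheaf J AddCommGrpCat.{u}) (_ : Injective I) : divisibleSh I := by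
  intro n hn
  refine CohLib.epi_of_surjective_sections _ fun U s => ?_
  let Z₀ : Cᵒᵖ ⥤ AddCommGrpCat.{u} := yoneda.obj U ⋙ AddCommGrpCat.free.{u}
  haveI : Mono (n • 𝟙 Z₀) := by
    haveI : ∀ V, Mono ((n • 𝟙 Z₀).app V) := fun V => by
      rw [AddCommGrpCat.mono_iff_injective, injective_iff_map_eq_zero]
      intro a ha
      rw [NatTrans.app_nsmul] at ha
      change FreeAbelianGroup ((yoneda.obj U).obj V) at a
      have ha' : n • a = 0 := ha
      apply (FreeAbelianGroup.equivFinsupp _).injective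
      have h2 := congrArg (FreeAbelianGroup.equivFinsupp _) ha'
      rw [map_nsmul, map_zero] at h2
      exact ((nsmul_eq_zero_iff.1 h2).resolve_right hn.ne').trans (map_zero _).symm
    exact NatTrans.mono_of_mono_app _
  haveI : (presheafToSheaf J AddCommGrpCat.{u}).Additive :=
    (sheafificationAdjunction J AddCommGrpCat.{u}).left_adjoint_additive
  haveI : Mono ((presheafToSheaf J AddCommGrpCat.{u}).map (n • 𝟙 Z₀)) :=
    (presheafToSheaf J AddCommGrpCat.{u}).map_mono _
  obtain ⟨t, ht⟩ : ∃ t, (presheafToSheaf J AddCommGrpCat.{u}).map (n • 𝟙 Z₀) ≫ t =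
      (CohLib.secEquiv U I).symm s :=
    ⟨Injective.factorThru _ _, Injective.comp_factorThru _ _⟩
  refine ⟨CohLib.secEquiv U I t, ?_⟩
  rw [← CohLib.secEquiv_comp]
  refine (congrArg (CohLib.secEquiv U I) ?_).trans ((CohLib.secEquiv U I).apply_symm_apply s)
  rw [← ht, Functor.map_nsmul, CategoryTheory.Functor.map_id, Preadditive.comp_nsmul,
    Preadditive.nsmul_comp, Category.comp_id]
  exact congrArg (n • ·) (Category.id_comp t).symm

lemma nsmul_app {F G : Sheaf J AddCommGrpCat.{u}} (n : ℕ) (φ : F ⟶ G) (U : Cᵒᵖ) (x : F.obj.obj U) :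
    (n • φ).hom.app U x = n • φ.hom.app U x := by
  induction n with
  | zero => simp
  | succ n ih => simp [succ_nsmul, ← ih]

lemma epi_torsMap {S : ShortComplex (Sheaf J AddCommGrpCat.{u})} (hS : S.ShortExact)
    (hD : divisibleSh S.X₁) : Epi ((torsCoreflection (J := J)).map S.g) := by
  haveI := hS.epi_g
  rw [← Sheaf.isLocallySurjective_iff_epi' AddCommGrpCat.{u}]
  refine ⟨fun {U} s => ?_⟩
  let a : S.X₃.obj.obj (op U) := (torsι S.X₃).hom.app (op U) s
  obtain ⟨T, hT, hs⟩ := isTorsion_torsObj S.X₃ U s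
  refine J.transitive hT _ fun V g hg => ?_
  refine J.transitive (imageSieve_mem_of_epi S.g (S.X₃.obj.map g.op a)) _ fun W k hk => ?_
  obtain ⟨x, hx⟩ := hk
  obtain ⟨n, hn, hn0⟩ := isOfFinAddOrder_iff_nsmul_eq_zero.1 (hs g hg)
  have hna : n • S.X₃.obj.map g.op a = 0 := by
    have := congrArg ((torsι S.X₃).hom.app (op V)) hn0
    rw [map_nsmul, map_zero] at this
    refine (congrArg (n • ·) ?_).trans this
    exact (ConcreteCategory.congr_hom ((torsι S.X₃).hom.naturality g.op) s).symm
  have hgx : S.g.hom.app (op W) (n • x) = 0 := by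
    rw [map_nsmul, hx, ← map_nsmul, hna, map_zero]
  refine J.transitive (CompareLib.imageSieve_mem_of_exact hS.exact (n • x) hgx) _ fun R l hl => ?_
  obtain ⟨y, hy⟩ := hl
  haveI := hD n hn
  refine J.superset_covering ?_ (imageSieve_mem_of_epi (n • 𝟙 S.X₁) y)
  rintro Q m ⟨z, hz⟩
  show Presheaf.imageSieve ((torsCoreflection (J := J)).map S.g).hom s (((m ≫ l) ≫ k) ≫ g)
  let x' := S.X₂.obj.map (m ≫ l).op x - S.f.hom.app (op Q) z
  have hx' : n • x' = 0 := by
    rw [smul_sub, sub_eq_zero, ← map_nsmul, ← map_nsmul, map_comp_apply]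
    refine (congrArg (S.X₂.obj.map m.op) hy.symm).trans ?_
    refine (ConcreteCategory.congr_hom (S.f.hom.naturality m.op) y).symm.trans ?_
    refine congrArg (S.f.hom.app (op Q)) (hz.symm.trans ?_)
    rw [nsmul_app]
    rfl
  obtain ⟨w, hw⟩ := exists_torsι_eq S.X₂ x' n hn hx'
  haveI := mono_torsι S.X₃
  refine ⟨w, sections_injective (torsι S.X₃) Q ?_⟩
  have h1 := ConcreteCategory.congr_hom (NatTrans.congr_app
    (congrArg (fun q => q.hom) ((torsCoreflection (J := J)).map_ι S.g)) (op Q)) w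
  refine h1.trans ?_
  have h2 := ConcreteCategory.congr_hom ((torsι S.X₃).hom.naturality (((m ≫ l) ≫ k) ≫ g).op) s
  refine Eq.trans ?_ h2.symm
  refine (congrArg (S.g.hom.app (op Q)) hw).trans ?_
  rw [map_sub]
  have h3 : S.g.hom.app (op Q) (S.f.hom.app (op Q) z) = 0 :=
    ConcreteCategory.congr_hom (NatTrans.congr_app (congrArg (fun q => q.hom) S.zero) (op Q)) z
  refine (congrArg (_ - ·) h3).trans ((sub_zero _).trans ?_)
  refine (ConcreteCategory.congr_hom (S.g.hom.naturality (m ≫ l).op) x).trans ?_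
  refine (congrArg (S.X₃.obj.map (m ≫ l).op) hx).trans ?_
  rw [← map_comp_apply, ← map_comp_apply, Category.assoc]
  rfl

end

end Groth.Agent.TorsDerLib
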