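import Groth.Agent.DerLib.KInjUse
import Groth.Prelude.Def_WeakSerre
import Mathlib.Algebra.Homology.Refinements
import Mathlib.CategoryTheory.Preadditive.Injective.Basic

/-! Derived categories of coreflective Serre subcategories with enough acyclic objects. -/

set_option linter.unusedSectionVars false
set_option linter.style.haveILetI false

universe w w' v u

open CategoryTheory Limits HomologicalComplex

namespace Groth.Agent.TorsDerLib

noncomputable section

variable {B : Type u} [Category.{v} B] [Abelian B]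

/-- Largest subobjects with a property. -/
structure Coreflection (P : ObjectProperty B) where
  /-- The largest subobject. -/
  tgt : B → B
  /-- The inclusion. -/
  ι : ∀ X, tgt X ⟶ X
  mono : ∀ X, Mono (ι X)
  prop : ∀ X, P (tgt X)
  /-- The factorisation. -/
  lift : ∀ {F X : B}, P F → (F ⟶ X) → (F ⟶ tgt X)
  lift_ι : ∀ {F X : B} (h : P F) (φ : F ⟶ X), lift h φ ≫ ι X = φ

variable {P : ObjectProperty B} (t : Coreflection P)

instance (X : B) : Mono (t.ι X) := t.mono X

/-- The induced map. -/
def Coreflection.map {X Y : B} (g : X ⟶ Y) : t.tgt X ⟶ t.tgt Y := t.lift (t.prop X) (t.ι X ≫ g)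

lemma Coreflection.map_ι {X Y : B} (g : X ⟶ Y) : t.map g ≫ t.ι Y = t.ι X ≫ g := t.lift_ι _ _

/-- The subcomplex of largest subobjects. -/
def cx (K : CochainComplex B ℤ) : CochainComplex P.FullSubcategory ℤ where
  X n := ⟨t.tgt (K.X n), t.prop _⟩
  d i j := ObjectProperty.homMk (t.map (K.d i j))
  shape i j h := by
    apply ObjectProperty.hom_ext
    change t.map (K.d i j) = 0
    rw [← cancel_mono (t.ι _), t.map_ι, K.shape i j h, comp_zero, zero_comp]
  d_comp_d' i j k _ _ := by
    apply ObjectProperty.hom_ext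
    change t.map (K.d i j) ≫ t.map (K.d j k) = 0
    rw [← cancel_mono (t.ι _), Category.assoc, t.map_ι, ← Category.assoc, t.map_ι, Category.assoc,
      K.d_comp_d, comp_zero, zero_comp]

variable [P.IsSerreClass]

local notation "Cι" => Functor.mapHomologicalComplex (ObjectProperty.ι P) (ComplexShape.up ℤ)

/-- The inclusion of the subcomplex. -/
def incl (K : CochainComplex B ℤ) : (Cι).obj (cx t K) ⟶ K where
  f n := t.ι (K.X n)
  comm' i j _ := (t.map_ι (K.d i j)).symm

/-- Factorisation of a map of complexes through the subcomplex. -/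
def liftCx {L : CochainComplex P.FullSubcategory ℤ} {K : CochainComplex B ℤ}
    (f : (Cι).obj L ⟶ K) : L ⟶ cx t K where
  f n := ObjectProperty.homMk (t.lift (L.X n).property (f.f n))
  comm' i j _ := by
    apply ObjectProperty.hom_ext
    refine (cancel_mono (t.ι (K.X j))).1 ?_
    change (t.lift _ (f.f i) ≫ t.map (K.d i j)) ≫ t.ι (K.X j) =
      ((L.d i j).hom ≫ t.lift _ (f.f j)) ≫ t.ι (K.X j)
    refine ((Category.assoc _ _ _).trans ((congrArg (t.lift _ (f.f i) ≫ ·) (t.map_ι (K.d i j))).trans
      ((Category.assoc _ _ _).symm.trans (congrArg (· ≫ K.d i j) (t.lift_ι _ (f.f i)))))).trans ?_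
    exact (f.comm i j).trans ((congrArg ((L.d i j).hom ≫ ·) (t.lift_ι (L.X j).property (f.f j))).symm.trans
      (Category.assoc _ _ _).symm)

lemma liftCx_incl {L : CochainComplex P.FullSubcategory ℤ} {K : CochainComplex B ℤ}
    (f : (Cι).obj L ⟶ K) : (Cι).map (liftCx t f) ≫ incl t K = f := by
  ext n
  exact t.lift_ι _ (f.f n)

/-- Homotopies lift to the subcomplex. -/
def liftHomotopy {L : CochainComplex P.FullSubcategory ℤ} {K : CochainComplex B ℤ}
    {a b : L ⟶ cx t K} (h : Homotopy ((Cι).map a ≫ incl t K) ((Cι).map b ≫ incl t K)) :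
    Homotopy a b where
  hom i j := ObjectProperty.homMk (t.lift (L.X i).property (h.hom i j))
  zero i j hij := by
    apply ObjectProperty.hom_ext
    change t.lift _ (h.hom i j) = 0
    rw [← cancel_mono (t.ι _), t.lift_ι, h.zero i j hij, zero_comp]
  comm i := by
    apply ObjectProperty.hom_ext
    refine (cancel_mono (t.ι (K.X i))).1 ((h.comm i).trans ?_)
    rw [dNext_eq _ (show (ComplexShape.up ℤ).Rel i (i + 1) by simp),
      prevD_eq _ (show (ComplexShape.up ℤ).Rel (i - 1) i by simp),
      dNext_eq _ (show (ComplexShape.up ℤ).Rel i (i + 1) by simp),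
      prevD_eq _ (show (ComplexShape.up ℤ).Rel (i - 1) i by simp)]
    refine Eq.symm ((Preadditive.add_comp _ _ _ _ _ _).trans ?_)
    refine congrArg (· + (b.f i).hom ≫ t.ι (K.X i)) ((Preadditive.add_comp _ _ _ _ _ _).trans
      (congrArg₂ (· + ·) ?_ ?_))
    · exact (Category.assoc _ _ _).trans (congrArg ((L.d i (i + 1)).hom ≫ ·) (t.lift_ι _ (h.hom (i + 1) i)))
    · exact (Category.assoc _ _ _).trans ((congrArg (t.lift _ (h.hom i (i - 1)) ≫ ·) (t.map_ι (K.d (i - 1) i))).trans
        ((Category.assoc _ _ _).symm.trans (congrArg (· ≫ K.d (i - 1) i) (t.lift_ι _ (h.hom i (i - 1))))))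

/-- The subcomplex of a K-injective complex is K-injective. -/
lemma isKInjective_cx (K : CochainComplex B ℤ) [K.IsKInjective] : (cx t K).IsKInjective := by
  refine ⟨fun {L} f hL => ⟨liftHomotopy t (b := 0) ?_⟩⟩
  have hL' : ((Cι).obj L).Acyclic := fun n => (hL n).map P.ι
  exact (CochainComplex.IsKInjective.homotopyZero ((Cι).map f ≫ incl t K) hL').trans
    (Homotopy.ofEq (by simp))

section QuasiIso

variable (Dv : ObjectProperty B) (hq : ∀ {X Y : B} (p : X ⟶ Y) [Epi p], Dv X → Dv Y)
  (hlift : ∀ {S : ShortComplex B}, S.ShortExact → Dv S.X₁ → Epi (t.map S.g))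

include hq hlift in
/-- For a complex of acyclic objects with cohomology in the class, the subcomplex has the same
cohomology. -/
theorem quasiIso_incl (K : CochainComplex B ℤ) (hD : ∀ n, Dv (K.X n))
    (hH : ∀ n, P (K.homology n)) : QuasiIso (incl t K) := by
  rw [quasiIso_iff]
  intro n
  rw [quasiIsoAt_iff_isIso_homologyMap]
  have hprev : ∀ m : ℤ, (ComplexShape.up ℤ).prev m = m - 1 := fun m => CochainComplex.prev ℤ m
  have hnext : ∀ m : ℤ, (ComplexShape.up ℤ).next m = m + 1 := fun m => CochainComplex.next ℤ m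
  have hcyc : Dv (kernel (K.homologyπ n)) := by
    have h : (ShortComplex.mk _ _ (K.toCycles_comp_homologyπ (n - 1) n)).Exact :=
      ShortComplex.exact_of_g_is_cokernel _ (K.homologyIsCokernel (n - 1) n (hprev n))
    haveI := h.epi_kernelLift
    exact hq (kernel.lift _ (K.toCycles (n - 1) n) (K.toCycles_comp_homologyπ (n - 1) n)) (hD _)
  have hopc : Dv (kernel (K.pOpcycles (n - 1))) := by
    have h : (ShortComplex.mk _ _ (K.d_pOpcycles (n - 1 - 1) (n - 1))).Exact :=
      ShortComplex.exact_of_g_is_cokernel _ (K.opcyclesIsCokernel (n - 1 - 1) (n - 1) (hprev _))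
    haveI := h.epi_kernelLift
    exact hq (kernel.lift _ (K.d (n - 1 - 1) (n - 1)) (K.d_pOpcycles _ _)) (hD _)
  haveI : Epi (t.map (K.homologyπ n)) :=
    hlift (S := ShortComplex.mk _ _ (kernel.condition (K.homologyπ n)))
      (ShortComplex.ShortExact.mk' (ShortComplex.exact_of_f_is_kernel _ (kernelIsKernel _))
        inferInstance inferInstance) hcyc
  haveI : Epi (t.map (K.pOpcycles (n - 1))) :=
    hlift (S := ShortComplex.mk _ _ (kernel.condition (K.pOpcycles (n - 1))))
      (ShortComplex.ShortExact.mk' (ShortComplex.exact_of_f_is_kernel _ (kernelIsKernel _))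
        inferInstance inferInstance) hopc
  haveI : Epi (homologyMap (incl t K) n) := by
    rw [epi_homologyMap_iff_up_to_refinements _ (n - 1) n (n + 1) (hprev n) (hnext n)]
    intro A y hy
    let yc := K.liftCycles y (n + 1) (hnext n) hy
    let κ := t.lift (hH n) (𝟙 (K.homology n))
    obtain ⟨A₁, π₁, hπ₁, w, hw⟩ :=
      surjective_up_to_refinements_of_epi (t.map (K.homologyπ n)) (yc ≫ K.homologyπ n ≫ κ)
    have h0 : (π₁ ≫ yc - w ≫ t.ι _) ≫ K.homologyπ n = 0 := by
      have := congrArg (· ≫ t.ι (K.homology n)) hw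
      simp only [Category.assoc, κ, t.lift_ι, t.map_ι, Category.comp_id] at this
      rw [Preadditive.sub_comp, Category.assoc, Category.assoc, this, sub_self]
    have hex : (ShortComplex.mk _ _ (K.toCycles_comp_homologyπ (n - 1) n)).Exact :=
      ShortComplex.exact_of_g_is_cokernel _ (K.homologyIsCokernel (n - 1) n (hprev n))
    obtain ⟨A₂, π₂, hπ₂, y₁, hy₁⟩ := hex.exact_up_to_refinements _ h0
    let wc : A₁ ⟶ t.tgt (K.X n) := w ≫ t.map (K.iCycles n)
    have hwc : wc ≫ t.map (K.d n (n + 1)) = 0 := by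
      rw [← cancel_mono (t.ι _)]
      simp only [wc, Category.assoc, t.map_ι, ← Category.assoc (t.map (K.iCycles n)), zero_comp]
      simp
    refine ⟨A₂, π₂ ≫ π₁, inferInstance, π₂ ≫ wc, ?_, y₁, ?_⟩
    · change (π₂ ≫ wc) ≫ t.map (K.d n (n + 1)) = 0
      rw [Category.assoc, hwc, comp_zero]
    · have h1 := congrArg (· ≫ K.iCycles n) hy₁
      simp only [Category.assoc, toCycles_i, Preadditive.sub_comp, yc, liftCycles_i,
        Preadditive.comp_sub] at h1
      change (π₂ ≫ π₁) ≫ y = (π₂ ≫ wc) ≫ t.ι (K.X n) + y₁ ≫ K.d (n - 1) n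
      simp only [wc, Category.assoc, t.map_ι]
      rw [← h1]
      exact (add_sub_cancel _ _).symm
  haveI : Mono (homologyMap (incl t K) n) := by
    rw [mono_homologyMap_iff_up_to_refinements _ (n - 1) n (n + 1) (hprev n) (hnext n)]
    intro A a _ y hy
    change A ⟶ t.tgt (K.X n) at a
    change a ≫ t.ι (K.X n) = y ≫ K.d (n - 1) n at hy
    let f := K.fromOpcycles (n - 1) n
    let E := pullback f (t.ι (K.X n))
    haveI : Mono (pullback.fst f (t.ι (K.X n))) := inferInstance
    have hE : P E := by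
      let kf : kernel (pullback.snd f (t.ι (K.X n))) ⟶ K.homology (n - 1) :=
        (K.homologyIsKernel (n - 1) n ((hnext _).trans (by omega))).lift (KernelFork.ofι
          (kernel.ι _ ≫ pullback.fst f (t.ι (K.X n))) (by
            rw [Category.assoc, pullback.condition, kernel.condition_assoc, zero_comp]))
      have hkf : kf ≫ K.homologyι (n - 1) = kernel.ι _ ≫ pullback.fst f (t.ι (K.X n)) :=
        Fork.IsLimit.lift_ι _
      haveI : Mono kf := mono_of_mono_fac hkf
      exact P.prop_X₂_of_exact (S := ShortComplex.mk _ _ (kernel.condition (pullback.snd f (t.ι (K.X n)))))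
        (ShortComplex.exact_of_f_is_kernel _ (kernelIsKernel _)) (P.prop_of_mono kf (hH (n - 1)))
        (t.prop _)
    let e : A ⟶ E := pullback.lift (y ≫ K.pOpcycles (n - 1)) a (by
      rw [Category.assoc, hy]
      simp [f])
    obtain ⟨A₁, π, hπ, y', hy'⟩ := surjective_up_to_refinements_of_epi
      (t.map (K.pOpcycles (n - 1))) (e ≫ t.lift hE (pullback.fst _ _))
    refine ⟨A₁, π, hπ, y', ?_⟩
    change π ≫ a = y' ≫ t.map (K.d (n - 1) n)
    have h1 := congrArg (· ≫ t.ι _) hy'
    simp only [Category.assoc, t.lift_ι, t.map_ι, e, pullback.lift_fst] at h1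
    rw [← cancel_mono (t.ι (K.X n)), Category.assoc, hy, Category.assoc, t.map_ι,
      ← K.p_fromOpcycles (n - 1) n]
    rw [← Category.assoc y, ← Category.assoc π, h1]
    simp only [Category.assoc]
  exact isIso_of_mono_of_epi _

end QuasiIso

section Derived

variable (Dv : ObjectProperty B) (hq : ∀ {X Y : B} (p : X ⟶ Y) [Epi p], Dv X → Dv Y)
  (hinj : ∀ (I : B), Injective I → Dv I)
  (hlift : ∀ {S : ShortComplex B}, S.ShortExact → Dv S.X₁ → Epi (t.map S.g))
  [IsGrothendieckAbelian.{v} B] [HasDerivedCategory.{w} B] [HasDerivedCategory.{w'} P.FullSubcategory]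

local notation "F" => WSerre.toDerived P

include t hq hinj hlift in
/-- A complex with cohomology in the class is quasi-isomorphic to one with terms in the class. -/
theorem exists_resolution (K : CochainComplex B ℤ) (hH : ∀ n, P (K.homology n)) :
    ∃ (I : CochainComplex B ℤ) (f : K ⟶ I), I.IsKInjective ∧ QuasiIso f ∧ QuasiIso (incl t I) := by
  obtain ⟨I, f, hI, hf, hinjI⟩ := DerLib.KInjRes.exists_resolution K
  haveI : QuasiIso f := (HomologicalComplex.mem_quasiIso_iff _).1 hf.2
  refine ⟨I, f, hI, inferInstance, quasiIso_incl t Dv hq hlift I (fun n => hinj _ (hinjI n)) fun n => ?_⟩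
  exact P.prop_of_iso (asIso (homologyMap f n)) (hH n)

include t hq hinj hlift in
/-- A complex of members has a K-injective resolution by members. -/
theorem exists_resolution' (Y : CochainComplex P.FullSubcategory ℤ) :
    ∃ (I : CochainComplex B ℤ) (g : Y ⟶ cx t I), I.IsKInjective ∧ QuasiIso g ∧
      QuasiIso (incl t I) := by
  obtain ⟨I, f, hI, hf, hi⟩ := exists_resolution t Dv hq hinj hlift ((Cι).obj Y) fun n =>
    P.prop_of_iso ((Y.sc n).mapHomologyIso P.ι).symm (Y.homology n).property
  refine ⟨I, liftCx t f, hI, ?_, hi⟩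
  haveI : QuasiIso ((Cι).map (liftCx t f) ≫ incl t I) := by rw [liftCx_incl]; exact hf
  haveI : QuasiIso ((Cι).map (liftCx t f)) := quasiIso_of_comp_right _ (incl t I)
  exact (HomologicalComplex.quasiIso_map_iff_of_preservesHomology _ P.ι).1 inferInstance

include t hq hinj hlift in
theorem faithful : (F).Faithful := by
  refine ⟨fun {X Y} a b hab => ?_⟩
  let X₀ := DerivedCategory.Q.objPreimage X
  let eX := DerivedCategory.Q.objObjPreimageIso X
  let Y₀ := DerivedCategory.Q.objPreimage Y
  let eY := DerivedCategory.Q.objObjPreimageIso Y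
  obtain ⟨I, g, hI, hg, hi⟩ := exists_resolution' t Dv hq hinj hlift Y₀
  haveI := hI
  haveI := isKInjective_cx t I
  let c := eY.inv ≫ DerivedCategory.Q.map g
  obtain ⟨α, hα⟩ := DerLib.KInjUse.Q_map_surjective X₀ (cx t I) (eX.hom ≫ a ≫ c)
  obtain ⟨β, hβ⟩ := DerLib.KInjUse.Q_map_surjective X₀ (cx t I) (eX.hom ≫ b ≫ c)
  rw [← cancel_epi eX.hom, ← cancel_mono c, Category.assoc, Category.assoc, ← hα, ← hβ]
  have h1 : (F).map (DerivedCategory.Q.map α) = (F).map (DerivedCategory.Q.map β) := by
    rw [hα, hβ]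
    simp only [Functor.map_comp, hab]
  have h2 : DerivedCategory.Q.map ((Cι).map α) = DerivedCategory.Q.map ((Cι).map β) := by
    rw [← cancel_epi (P.ι.mapDerivedCategoryFactors.hom.app X₀),
      ← Functor.mapDerivedCategoryFactors_hom_naturality,
      ← Functor.mapDerivedCategoryFactors_hom_naturality]
    exact congrArg (· ≫ _) h1
  have h3 : (HomotopyCategory.quotient B (ComplexShape.up ℤ)).map ((Cι).map α ≫ incl t I) =
      (HomotopyCategory.quotient B (ComplexShape.up ℤ)).map ((Cι).map β ≫ incl t I) := by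
    rw [← sub_eq_zero, ← Functor.map_sub]
    refine DerLib.KInjUse.quotient_eq_zero_of_Q ?_
    rw [Functor.map_sub, Functor.map_comp, Functor.map_comp, h2, sub_self]
  have h4 : (HomotopyCategory.quotient _ (ComplexShape.up ℤ)).map α =
      (HomotopyCategory.quotient _ (ComplexShape.up ℤ)).map β :=
    HomotopyCategory.eq_of_homotopy _ _ (liftHomotopy t (HomotopyCategory.homotopyOfEq _ _ h3))
  rw [← sub_eq_zero, ← Functor.map_sub]
  exact DerLib.KInjUse.Q_map_zero_of_quotient (by rw [Functor.map_sub, h4, sub_self])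

include t hq hinj hlift in
theorem full : (F).Full := by
  refine ⟨fun {X Y} c => ?_⟩
  let X₀ := DerivedCategory.Q.objPreimage X
  let eX := DerivedCategory.Q.objObjPreimageIso X
  let Y₀ := DerivedCategory.Q.objPreimage Y
  let eY := DerivedCategory.Q.objObjPreimageIso Y
  obtain ⟨I, g, hI, hg, hi⟩ := exists_resolution' t Dv hq hinj hlift Y₀
  haveI := hI
  let n := P.ι.mapDerivedCategoryFactors
  obtain ⟨ψ, hψ⟩ := DerLib.KInjUse.Q_map_surjective ((Cι).obj X₀) I
    (n.inv.app X₀ ≫ (F).map eX.hom ≫ c ≫ (F).map eY.inv ≫ n.hom.app Y₀ ≫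
      DerivedCategory.Q.map ((Cι).map g) ≫ DerivedCategory.Q.map (incl t I))
  refine ⟨eX.inv ≫ DerivedCategory.Q.map (liftCx t ψ) ≫ inv (DerivedCategory.Q.map g) ≫ eY.hom, ?_⟩
  rw [← cancel_epi ((F).map eX.hom), ← Functor.map_comp, Iso.hom_inv_id_assoc,
    ← cancel_mono ((F).map eY.inv ≫ n.hom.app Y₀ ≫ DerivedCategory.Q.map ((Cι).map g) ≫
      DerivedCategory.Q.map (incl t I)), ← cancel_epi (n.inv.app X₀)]
  simp only [Category.assoc]
  refine Eq.trans ?_ hψ
  simp only [Functor.map_comp, Category.assoc]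
  rw [← Functor.map_comp_assoc _ eY.hom eY.inv, Iso.hom_inv_id, CategoryTheory.Functor.map_id,
    Category.id_comp, ← Functor.mapDerivedCategoryFactors_hom_naturality_assoc]
  have key : ∀ {Z : DerivedCategory B} (k : (F).obj (DerivedCategory.Q.obj (cx t I)) ⟶ Z),
      (F).map (inv (DerivedCategory.Q.map g)) ≫
        (F).map (DerivedCategory.Q.map g) ≫ k = k := fun k => by
    rw [← Category.assoc, ← Functor.map_comp, IsIso.inv_hom_id, CategoryTheory.Functor.map_id, Category.id_comp]
  refine (congrArg (fun z => n.inv.app X₀ ≫ (F).map (DerivedCategory.Q.map (liftCx t ψ)) ≫ z) (key _)).trans ?_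
  change n.inv.app X₀ ≫ P.ι.mapDerivedCategory.map (DerivedCategory.Q.map (liftCx t ψ)) ≫ _ = _
  rw [Functor.mapDerivedCategoryFactors_hom_naturality_assoc, Iso.inv_hom_id_app_assoc,
    ← Functor.map_comp, liftCx_incl]

include t hq hinj hlift in
theorem cohIn_iff (K : DerivedCategory B) : WSerre.cohIn P K ↔ (F).essImage K := by
  constructor
  · intro h
    let K₀ := DerivedCategory.Q.objPreimage K
    let eK := DerivedCategory.Q.objObjPreimageIso K
    obtain ⟨I, f, -, hf, hi⟩ := exists_resolution t Dv hq hinj hlift K₀ fun n =>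
      P.prop_of_iso ((DerivedCategory.homologyFunctor B n).mapIso eK.symm ≪≫
        (DerivedCategory.homologyFunctorFactors B n).app K₀) (h n)
    exact ⟨DerivedCategory.Q.obj (cx t I), ⟨P.ι.mapDerivedCategoryFactors.app (cx t I) ≪≫
      asIso (DerivedCategory.Q.map (incl t I)) ≪≫ (asIso (DerivedCategory.Q.map f)).symm ≪≫ eK⟩⟩
  · rintro ⟨X, ⟨e⟩⟩ n
    let X₀ := DerivedCategory.Q.objPreimage X
    let eX := DerivedCategory.Q.objObjPreimageIso X
    exact P.prop_of_iso ((DerivedCategory.homologyFunctor B n).mapIso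
        (((P.ι.mapDerivedCategoryFactors.app X₀).symm ≪≫ (F).mapIso eX) ≪≫ e))
      (P.prop_of_iso (((X₀.sc n).mapHomologyIso P.ι).symm ≪≫
        ((DerivedCategory.homologyFunctorFactors B n).app ((Cι).obj X₀)).symm) (X₀.homology n).property)

end Derived

end

end Groth.Agent.TorsDerLib
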